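import Groth.Prelude.Def_DerSch2
import Groth.Agent.L16.CohClosedPush
import Groth.Agent.L17.ClosedPush
import Groth.Agent.L29.DCoh.PCQCoh
import Groth.Agent.L29.DCoh.TildeAlg
import Groth.Agent.L29.DCoh.RpushRestrict

/-!
Charts for relative pseudo-coherence: cohomology of the pushed forward complex.
-/

set_option autoImplicit false
set_option backward.defeqAttrib.useBackward true
set_option backward.isDefEq.respectTransparency false
set_option backward.isDefEq.respectTransparency.types false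

universe u

open CategoryTheory CategoryTheory.Limits AlgebraicGeometry

attribute [local instance] HasDerivedCategory.standard

namespace Groth.L29.KSix

variable {X Y : Scheme.{u}}

theorem isClosedImmersion_chartImm {U : X.Opens} (hU : IsAffineOpen U) {R : Type u} [CommRing R] {n : ℕ}
    {φ : MvPolynomial (Fin n) R →+* Γ(X, U)} (hφ : Function.Surjective φ) :
    IsClosedImmersion (DerSch.chartImm U φ) := by
  haveI : IsIso U.toSpecΓ := by
    rw [show U.toSpecΓ = hU.isoSpec.hom from hU.isoSpec_hom.symm]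
    infer_instance
  haveI : IsClosedImmersion (Spec.map (CommRingCat.ofHom φ)) := IsClosedImmersion.spec_of_surjective _ hφ
  exact inferInstanceAs (IsClosedImmersion (U.toSpecΓ ≫ Spec.map (CommRingCat.ofHom φ)))

theorem isZero_of_isZero_push {Z W : Scheme.{u}} (i : Z ⟶ W) [IsClosedImmersion i] {M : Z.Modules}
    (h : IsZero ((Scheme.Modules.pushforward i).obj M)) : IsZero M := by
  haveI := Groth.L17.ClosedPush.isIso_counit i
  exact ((Scheme.Modules.pullback i).map_isZero h).of_iso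
    (asIso ((Scheme.Modules.pullbackPushforwardAdjunction i).counit.app M)).symm

/-- exact functors commute with cohomology -/
theorem nonempty_homology_iso {Z W : Scheme.{u}} (i : Z ⟶ W) [IsClosedImmersion i]
    (C : CochainComplex Z.Modules ℤ) (k : ℤ) :
    Nonempty (((DerSch.pushCx i).obj C).homology k ≅ (Scheme.Modules.pushforward i).obj (C.homology k)) := by
  haveI := Groth.L17.PushQCoh.additive_push i
  haveI := Groth.L17.ClosedPush.preservesColimits_push i
  haveI : PreservesFiniteLimits (Scheme.Modules.pushforward i) :=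
    haveI : (Scheme.Modules.pushforward i).IsRightAdjoint := ⟨_, ⟨Scheme.Modules.pullbackPushforwardAdjunction i⟩⟩
    inferInstance
  haveI : PreservesFiniteColimits (Scheme.Modules.pushforward i) :=
    PreservesColimitsOfSize.preservesFiniteColimits _
  exact ⟨(C.sc k).mapHomologyIso (Scheme.Modules.pushforward i)⟩

variable {f : X ⟶ Y} {m : ℤ} {K : DCoh.D X} {U : X.Opens} {V : Y.Opens} {n : ℕ}
  {φ : MvPolynomial (Fin n) Γ(Y, V) →+* Γ(X, U)}

theorem nonempty_HD_push (G : CochainComplex X.Modules ℤ) (e : DCoh.toD X G ≅ K)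
    [IsClosedImmersion (DerSch.chartImm U φ)] (i : ℤ) :
    Nonempty (DCoh.HD (DCoh.toD _ ((DerSch.pushCx (DerSch.chartImm U φ)).obj ((DCoh.restrictCx U).obj G))) i ≅
      (Scheme.Modules.pushforward (DerSch.chartImm U φ)).obj ((DCoh.HD K i).restrict U.ι)) := by
  obtain ⟨a⟩ := nonempty_homology_iso (DerSch.chartImm U φ) ((DCoh.restrictCx U).obj G) i
  refine ⟨(DerivedCategory.homologyFunctorFactors _ i).app _ ≪≫ a ≪≫
    (Scheme.Modules.pushforward (DerSch.chartImm U φ)).mapIso ((G.sc i).mapHomologyIso (Scheme.Modules.restrictFunctor U.ι) ≪≫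
      (Scheme.Modules.restrictFunctor U.ι).mapIso
        (((DerivedCategory.homologyFunctorFactors _ i).app G).symm ≪≫
          (DerivedCategory.homologyFunctor _ i).mapIso e))⟩

/-- cohomology is quasi-coherent on charts -/
theorem isQCoh_HD_of_chartPC (hU : IsAffineOpen U) (hφ : Function.Surjective φ) (h : DerSch.ChartPC m K U V φ)
    {i : ℤ} (hi : m < i) : Coh.IsQCoh ((DCoh.HD K i).restrict U.ι) := by
  haveI := isClosedImmersion_chartImm hU hφ
  have e : DCoh.toD X (DerivedCategory.Q.objPreimage K) ≅ K := DerivedCategory.Q.objObjPreimageIso K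
  obtain ⟨a⟩ := nonempty_HD_push (φ := φ) _ e i
  haveI : Coh.IsQCoh ((Coh.push (DerSch.chartImm U φ)).obj ((DCoh.HD K i).restrict U.ι)) :=
    Groth.L29.DC.isQCoh_of_iso' a (Groth.L29.DC.PCQCoh.isQCoh_HD hi (h _ ⟨e⟩))
  exact Groth.L16.CohClosedPush.isQCoh_of_push (DerSch.chartImm U φ) _

/-- cohomology is bounded above on charts -/
theorem exists_isZero_of_chartPC (hU : IsAffineOpen U) (hφ : Function.Surjective φ) (h : DerSch.ChartPC m K U V φ) :
    ∃ N : ℤ, ∀ i, N ≤ i → IsZero ((DCoh.HD K i).restrict U.ι) := by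
  haveI := isClosedImmersion_chartImm hU hφ
  have e : DCoh.toD X (DerivedCategory.Q.objPreimage K) ≅ K := DerivedCategory.Q.objObjPreimageIso K
  obtain ⟨N, hN⟩ := Groth.L29.DC.TildeAlg.exists_isZero (h _ ⟨e⟩)
  refine ⟨N, fun i hi => ?_⟩
  obtain ⟨a⟩ := nonempty_HD_push (φ := φ) _ e i
  exact isZero_of_isZero_push (DerSch.chartImm U φ) ((hN i hi).of_iso a.symm)

theorem exists_chart (hK : DerSch.IsPseudoCoherentRel f m K) (x : X) :
    ∃ (V : Y.Opens) (U : X.Opens) (n : ℕ) (φ : MvPolynomial (Fin n) Γ(Y, V) →+* Γ(X, U)),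
      x ∈ U ∧ IsAffineOpen U ∧ Function.Surjective φ ∧ DerSch.ChartPC m K U V φ := by
  obtain ⟨-, 𝒱, h𝒱, h⟩ := hK
  obtain ⟨V, hV⟩ := TopologicalSpace.Opens.mem_iSup.1 (show f x ∈ (⨆ V ∈ 𝒱, (V : Y.Opens)) by rw [h𝒱]; trivial)
  obtain ⟨hV𝒱, hxV⟩ := TopologicalSpace.Opens.mem_iSup.1 hV
  obtain ⟨𝒰, h𝒰, h'⟩ := h V hV𝒱
  obtain ⟨U, hU⟩ := TopologicalSpace.Opens.mem_iSup.1
    (show x ∈ (⨆ U ∈ 𝒰, (U : X.Opens)) by rw [h𝒰]; exact hxV)
  obtain ⟨hU𝒰, hxU⟩ := TopologicalSpace.Opens.mem_iSup.1 hU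
  obtain ⟨n, φ, hc, hp⟩ := h' U hU𝒰 (h𝒰 ▸ le_iSup₂_of_le U hU𝒰 le_rfl)
  exact ⟨V, U, n, φ, hxU, U.2, hc.1, hp⟩

end Groth.L29.KSix
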